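import Groth.Agent.CubeX17.Flat
import Groth.Agent.H23.TrivBasic
import Groth.Agent.SeesawX.Closed
import Groth.Agent.SeesawX.Pair
import Groth.Agent.KFlatLib.Scheme.CoherentBase
import Groth.Agent.QCoh.FlatBC
import Mathlib.RingTheory.Valuation.ValuationRing
import Mathlib.RingTheory.Flat.TorsionFree
import Mathlib.AlgebraicGeometry.Morphisms.Proper

/-!
# Invertible modules on a proper flat scheme over a valuation ring
-/

set_option autoImplicit false
set_option linter.style.haveILetI false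
set_option linter.unusedSectionVars false
set_option backward.isDefEq.respectTransparency false
set_option backward.isDefEq.respectTransparency.types false

universe u

open CategoryTheory CategoryTheory.Limits AlgebraicGeometry TopologicalSpace Opposite IsLocalRing
open scoped TensorProduct

namespace Groth.Agent.ValTriv17

open Groth.Agent.AModX Groth.Agent.InvX Groth.Agent.H23 Groth.Agent.H23.TrivBasic

variable {A : Type u} [CommRing A] [IsDomain A] [ValuationRing A]

theorem coherent (I : Ideal A) (hI : I.FG) : Module.FinitePresentation A I := by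
  obtain ⟨x, rfl⟩ := (IsBezout.isPrincipal_of_FG I hI).principal
  by_cases hx : x = 0
  · subst hx
    rw [Submodule.span_zero_singleton]
    infer_instance
  · exact Module.FinitePresentation.of_equiv (LinearEquiv.toSpanNonzeroSingleton A A x hx)

/-- An element of `m R` is one multiple of an element of `m`. -/
theorem exists_eq_mul_of_mem_map {R : Type u} [CommRing R] (φ : A →+* R) {x : R}
    (hx : x ∈ (maximalIdeal A).map φ) : ∃ π ∈ maximalIdeal A, ∃ h, x = φ π * h := by
  induction hx using Submodule.span_induction with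
  | mem y hy =>
    obtain ⟨π, hπ, rfl⟩ := hy
    exact ⟨π, hπ, 1, (mul_one _).symm⟩
  | zero => exact ⟨0, zero_mem _, 0, by rw [map_zero, zero_mul]⟩
  | smul c y _ hy =>
    obtain ⟨π, hπ, h, rfl⟩ := hy
    exact ⟨π, hπ, c * h, by rw [smul_eq_mul, mul_left_comm]⟩
  | add y z _ _ hy hz =>
    obtain ⟨π, hπ, h, rfl⟩ := hy
    obtain ⟨ρ, hρ, k, rfl⟩ := hz
    rcases ValuationRing.dvd_total π ρ with ⟨c, rfl⟩ | ⟨c, rfl⟩
    · exact ⟨π, hπ, h + φ c * k, by rw [map_mul]; ring⟩
    · exact ⟨ρ, hρ, φ c * h + k, by rw [map_mul]; ring⟩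

theorem exists_common {J : Type u} [Finite J] (π : J → A) (hπ : ∀ a, π a ∈ maximalIdeal A) :
    ∃ ρ ∈ maximalIdeal A, ∀ a, ρ ∣ π a := by
  classical
  have := Fintype.ofFinite J
  suffices h : ∀ s : Finset J, ∃ ρ ∈ maximalIdeal A, ∀ a ∈ s, ρ ∣ π a by
    obtain ⟨ρ, h1, h2⟩ := h Finset.univ
    exact ⟨ρ, h1, fun a => h2 a (Finset.mem_univ a)⟩
  intro s
  induction s using Finset.induction_on with
  | empty => exact ⟨0, zero_mem _, fun a ha => absurd ha (Finset.notMem_empty a)⟩
  | insert a s _ ih =>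
    obtain ⟨ρ, hρ, h⟩ := ih
    rcases ValuationRing.dvd_total ρ (π a) with hd | hd
    · exact ⟨ρ, hρ, fun b hb => (Finset.mem_insert.1 hb).elim (fun e => e ▸ hd) (h b)⟩
    · exact ⟨π a, hπ a, fun b hb => (Finset.mem_insert.1 hb).elim (fun e => e ▸ dvd_rfl) fun hb' => hd.trans (h b hb')⟩

variable {X : Scheme.{u}} (f : X ⟶ Spec (CommRingCat.of A)) [IsProper f] [Flat f]

theorem regular_of_flat {U : X.Opens} (hU : IsAffineOpen U) {π : A} (hπ : π ≠ 0) (c : Γ(X, U))
    (h : RigidInf.α f U π * c = 0) : c = 0 := by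
  have hf := RigidInf.flat_α f hU
  algebraize [RigidInf.α f U]
  have hreg : IsSMulRegular Γ(X, U) π := Module.Flat.isSMulRegular_of_nonZeroDivisors (mem_nonZeroDivisors_of_ne_zero hπ)
  refine hreg ?_
  show π • c = π • (0 : Γ(X, U))
  rw [smul_zero, Algebra.smul_def]
  exact h

/-- A section vanishing on the closed fibre is divisible by an element of the maximal ideal. -/
theorem exists_div {Y : Scheme.{u}} (i : Y ⟶ X) {q : Y ⟶ Spec (CommRingCat.of (ResidueField A))}
    (hi : IsPullback i q f (Spec.map (CommRingCat.ofHom (residue A)))) {L : X.Modules} (hL : PicF.IsInvertible L)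
    (b : Γ(L, ⊤)) (hb : pullElt i b = 0) :
    ∃ π ∈ maximalIdeal A, ∃ s, b = RigidInf.α f ⊤ π • s := by
  classical
  haveI : X.IsSeparated := ⟨by rw [← Limits.terminal.comp_from f]; infer_instance⟩
  haveI : CompactSpace X := QuasiCompact.compactSpace_of_compactSpace f
  choose U hxU e he using fun x : X => InvX.exists_frame hL x
  have hV : ∀ x : X, ∃ V : X.Opens, IsAffineOpen V ∧ x ∈ V ∧ V ≤ U x := fun x => by
    obtain ⟨_, ⟨V, hV, rfl⟩, hxV, hle⟩ := X.isBasis_affineOpens.exists_subset_of_mem_open (hxU x) (U x).isOpen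
    exact ⟨V, hV, hxV, hle⟩
  choose V hVa hxV hVU using hV
  obtain ⟨t, ht⟩ := isCompact_univ.elim_finite_subcover (fun x : X => (V x : Set X)) (fun x => (V x).isOpen)
    fun x _ => Set.mem_iUnion.2 ⟨x, hxV x⟩
  have hcov : ∀ p : X, ∃ a : t, p ∈ V a := fun p => by
    obtain ⟨a, ha, hp⟩ := Set.mem_iUnion₂.1 (ht (Set.mem_univ p))
    exact ⟨⟨a, ha⟩, hp⟩
  have hg := fun a : t => ((he a.1).res (hVU a.1)).exists_coord le_rfl (AModX.res L (le_top : V a ≤ ⊤) b)
  choose g hg using hg
  simp only [AModX.res_self] at hg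
  have hgm : ∀ a : t, ∃ π ∈ maximalIdeal A, ∃ h, g a = RigidInf.α f (V a) π * h := fun a => by
    refine exists_eq_mul_of_mem_map _ ?_
    rw [← ker_residue (R := A)]
    refine (CubeX17.app_eq_zero_iff f residue_surjective hi (hVa a.1) (g a)).1 ?_
    have h1 := congrArg (pullElt i) (hg a)
    rw [pullElt_smul, ← res_pullElt i, hb, map_zero] at h1
    refine (isFrame_pullElt i ((he a.1).res (hVU a.1))).coord_unique le_rfl ?_
    rw [AModX.res_self, zero_smul]
    exact h1.symm
  choose π hπ h hh using hgm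
  obtain ⟨ρ, hρ, hdvd⟩ := exists_common π hπ
  choose c hc using hdvd
  let s : ∀ a : t, Γ(L, V a) := fun a => (RigidInf.α f (V a) (c a) * h a) • AModX.res L (hVU a.1) (e a.1)
  have hs : ∀ a : t, AModX.res L (le_top : V a ≤ ⊤) b = RigidInf.α f (V a) ρ • s a := fun a => by
    rw [hg a, hh a, hc a, map_mul, ← mul_smul, mul_assoc]
  by_cases hρ0 : ρ = 0
  · refine ⟨0, zero_mem _, 0, ?_⟩
    rw [smul_zero]
    refine AModX.eq_of_locally _ _ fun p _ => ?_
    obtain ⟨a, ha⟩ := hcov p
    exact ⟨V a, le_top, ha, by rw [hs a, hρ0, map_zero, zero_smul, map_zero]⟩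
  obtain ⟨T, hT, -⟩ := AModX.existsUnique_glue (M := L) (V := ⊤) (fun a : t => V a) (fun _ => le_top)
    (fun p _ => hcov p) s fun a a' => by
      let W := V a.1 ⊓ V a'.1
      have hW : IsAffineOpen W := (hVa a.1).inf (hVa a'.1)
      have hfr := ((he a.1).res (hVU a.1)).res (inf_le_left : W ≤ V a.1)
      obtain ⟨k, hk⟩ := hfr.exists_coord le_rfl
        (AModX.res L (inf_le_left : W ≤ V a.1) (s a) - AModX.res L (inf_le_right : W ≤ V a'.1) (s a'))
      rw [AModX.res_self] at hk
      have h1 := congrArg (AModX.res L (inf_le_left : W ≤ V a.1)) (hs a)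
      have h2 := congrArg (AModX.res L (inf_le_right : W ≤ V a'.1)) (hs a')
      rw [AModX.res_smul, AModX.res_res, show resR (inf_le_left : W ≤ V a.1) (RigidInf.α f (V a.1) ρ) =
        RigidInf.α f W ρ from RigidInf.map_α f _ ρ] at h1
      rw [AModX.res_smul, AModX.res_res, show resR (inf_le_right : W ≤ V a'.1) (RigidInf.α f (V a'.1) ρ) =
        RigidInf.α f W ρ from RigidInf.map_α f _ ρ] at h2
      have h3 : RigidInf.α f W ρ * k = 0 := by
        refine hfr.coord_unique le_rfl ?_
        rw [AModX.res_self, mul_smul, ← hk, zero_smul, smul_sub, ← h1, ← h2, sub_self]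
      rw [← sub_eq_zero, hk, regular_of_flat f hW hρ0 k h3, zero_smul]
  refine ⟨ρ, hρ, T, AModX.eq_of_locally _ _ fun p _ => ?_⟩
  obtain ⟨a, ha⟩ := hcov p
  exact ⟨V a, le_top, ha, by
    rw [hs a, AModX.res_smul, hT a, show resR (le_top : V a.1 ≤ ⊤) (RigidInf.α f ⊤ ρ) = RigidInf.α f (V a.1) ρ
      from RigidInf.map_α f _ ρ]⟩

variable [LocallyOfFinitePresentation f]

/-- An invertible module trivial on the generic fibre has a section nonzero on the closed fibre. -/
theorem exists_section {L : X.Modules} (hL : PicF.IsInvertible L) {K : Type u} [Field K] (χ : A →+* K)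
    (hχ : Function.Injective χ) {XK : Scheme.{u}} {g : XK ⟶ X} {q : XK ⟶ Spec (CommRingCat.of K)}
    [Nonempty XK] (hg : IsPullback g q f (Spec.map (CommRingCat.ofHom χ)))
    (hgen : Triv ((Scheme.Modules.pullback g).obj L))
    {Y : Scheme.{u}} (i : Y ⟶ X) {qk : Y ⟶ Spec (CommRingCat.of (ResidueField A))}
    (hi : IsPullback i qk f (Spec.map (CommRingCat.ofHom (residue A)))) :
    ∃ b : Γ(L, ⊤), pullElt i b ≠ 0 := by
  classical
  haveI : X.IsSeparated := ⟨by rw [← Limits.terminal.comp_from f]; infer_instance⟩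
  haveI : CompactSpace X := QuasiCompact.compactSpace_of_compactSpace f
  haveI : QuasiSeparatedSpace X := inferInstance
  algebraize [χ]
  haveI : Module.Flat A K := by
    rw [Module.Flat.flat_iff_torsion_eq_bot_of_isBezout, eq_bot_iff]
    rintro x ⟨⟨a, ha⟩, hx⟩
    rw [Submonoid.mk_smul, Algebra.smul_def, mul_eq_zero] at hx
    exact hx.resolve_left fun h => nonZeroDivisors.ne_zero ha (hχ (h.trans (map_zero _).symm))
  letI := QCoh.modHH (Coh.toGlobal f) L 0
  haveI := KFlatLib.CoherentBase.finitePresentation_HH_proper coherent f L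
    (QCoh.isFP_of_isFinLocFree fun x => (SeesawX.isFinLocFreeOfRank_one hL x).elim fun U h => ⟨U, 1, h⟩)
    (H23.Seesaw.isFlatOver_of_isInvertible f hL) 0
  haveI hnt : Nontrivial (Coh.HH X L 0) := by
    by_contra hs
    rw [not_nontrivial_iff_subsingleton] at hs
    obtain ⟨E⟩ := QCoh.HH_flatBaseChange (A := A) (B := K) hg (ProjUPX.isQCoh_of_isInvertible hL) 0
    letI := QCoh.modHH (Coh.toGlobal q) ((Scheme.Modules.pullback g).obj L) 0
    haveI : Subsingleton (K ⊗[A] Coh.HH X L 0) :=
      subsingleton_of_forall_eq 0 fun z => by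
        induction z using TensorProduct.induction_on with
        | zero => rfl
        | tmul a b => rw [Subsingleton.elim b 0, TensorProduct.tmul_zero]
        | add a b ha hb => rw [ha, hb, add_zero]
    haveI : Subsingleton (Coh.HH XK ((Scheme.Modules.pullback g).obj L) 0) := E.symm.toEquiv.subsingleton
    haveI := (SeesawX.subsingleton_sections_iff ((Scheme.Modules.pullback g).obj L)).2 this
    obtain ⟨e, he⟩ := hgen.exists_frame
    have h1 : (1 : Γ(XK, ⊤)) = 0 := he.coord_unique le_rfl (Subsingleton.elim _ _)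
    haveI : Nonempty (⊤ : XK.Opens) := ⟨⟨Classical.arbitrary XK, trivial⟩⟩
    haveI : Nontrivial Γ(XK, ⊤) := Scheme.component_nontrivial XK ⊤
    exact one_ne_zero h1
  obtain ⟨x, hx⟩ : ∃ x : Coh.HH X L 0, x ∉ (maximalIdeal A) • (⊤ : Submodule A (Coh.HH X L 0)) := by
    by_contra! h
    have htop : (⊤ : Submodule A (Coh.HH X L 0)) = ⊥ :=
      Submodule.eq_bot_of_le_smul_of_le_jacobson_bot (maximalIdeal A) ⊤ Module.Finite.fg_top (fun x _ => h x)
        (IsLocalRing.jacobson_eq_maximalIdeal ⊥ bot_ne_top).ge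
    exact (Submodule.nontrivial_iff A).2 hnt |>.exists_pair_ne.elim fun a ⟨b, hab⟩ =>
      hab (Subsingleton.elim (h := subsingleton_of_bot_eq_top htop.symm) a b)
  let e0 : Coh.HH X L 0 ≃+ Γ(L, ⊤) := SeesawX.HHzeroEquiv L
  have hlin : ∀ (a : A) (y : Coh.HH X L 0), e0 (a • y) = RigidInf.α f ⊤ a • e0 y := by
    intro a y
    have h := (Sheaf.H.equiv₀_naturality isTerminalTop (Coh.smulAb L (Coh.toGlobal f a)) y).symm
    refine (show e0 (a • y) = _ from h).trans ?_
    show (show Γ(X, ⊤) from Coh.resTop X (op ⊤) (Coh.toGlobal f a)) • (show Γ(L, ⊤) from e0 y) = _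
    congr 1
  refine ⟨e0 x, fun h0 => ?_⟩
  obtain ⟨π, hπ, s, hs⟩ := exists_div f i hi hL (e0 x) h0
  refine hx ?_
  rw [show x = π • e0.symm s from e0.injective (by rw [hlin, e0.apply_symm_apply, hs])]
  exact Submodule.smul_mem_smul hπ Submodule.mem_top

end Groth.Agent.ValTriv17
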